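import Groth.Agent.GeomUnib.CatenaryFormula

/-! The dimension inequality for finite type extensions of Noetherian domains. -/

set_option autoImplicit false

universe u

open CategoryTheory CategoryTheory.Limits AlgebraicGeometry TopologicalSpace

namespace Groth.Agent.DimInequality

open Catenary FibreDim GeomUnib

theorem height_add_height_map_le {R : Type u} [CommRing R] [IsNoetherianRing R] (P Q : Ideal R) [P.IsPrime] [Q.IsPrime]
    [(Q.map (Ideal.Quotient.mk P)).IsPrime] (hPQ : P ≤ Q) :
    P.height + (Q.map (Ideal.Quotient.mk P)).height ≤ Q.height := by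
  classical
  have hcQ : (Q.map (Ideal.Quotient.mk P)).comap (Ideal.Quotient.mk P) = Q := by
    rw [Ideal.comap_map_of_surjective _ Ideal.Quotient.mk_surjective, ← RingHom.ker_eq_comap_bot, Ideal.mk_ker,
      sup_eq_left.2 hPQ]
  obtain ⟨a, ha, halen⟩ := Ideal.exists_ltSeries_length_eq_height P
  obtain ⟨b, hb, hblen⟩ := Ideal.exists_ltSeries_length_eq_height (Q.map (Ideal.Quotient.mk P))
  have hcs : StrictMono (PrimeSpectrum.comap (Ideal.Quotient.mk P)) := fun x y hxy =>
    lt_of_le_of_ne (Ideal.comap_mono hxy.le) fun e =>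
      hxy.ne (PrimeSpectrum.comap_injective_of_surjective _ Ideal.Quotient.mk_surjective e)
  let b' := b.map _ hcs
  have hb'l : b'.last.asIdeal = Q := by
    rw [LTSeries.last_map]
    show b.last.asIdeal.comap _ = Q
    rw [hb]; exact hcQ
  have hhead : a.last ≤ b'.head := by
    rw [ha, LTSeries.head_map]
    show P ≤ b.head.asIdeal.comap _
    intro z hz
    rw [Ideal.mem_comap, Ideal.Quotient.eq_zero_iff_mem.2 hz]
    exact zero_mem _
  rw [← halen, ← hblen]
  rcases hhead.eq_or_lt with e | hlt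
  · have := Order.length_le_height (p := a.smash b' e) (x := (⟨Q, inferInstance⟩ : PrimeSpectrum R))
      (by rw [RelSeries.last_smash]; exact hb'l.le)
    rw [← PrimeSpectrum.height_eq_orderHeight] at this
    refine le_trans ?_ this
    simp [RelSeries.smash_length, b']
  · have := Order.length_le_height (p := a.append b' hlt) (x := (⟨Q, inferInstance⟩ : PrimeSpectrum R))
      (by rw [RelSeries.last_append]; exact hb'l.le)
    rw [← PrimeSpectrum.height_eq_orderHeight] at this
    refine le_trans ?_ this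
    simp [RelSeries.append_length, b']

theorem height_inequality {R B : Type u} [CommRing R] [IsDomain R] [IsNoetherianRing R] [CommRing B] [IsDomain B]
    [Algebra R B] [FaithfulSMul R B] [Algebra.FiniteType R B] (q : Ideal B) [q.IsPrime] :
    ∃ hq hp b e : ℕ, q.height = hq ∧ (q.under R).height = hp ∧
      Algebra.trdeg (R ⧸ q.under R) (B ⧸ q) = b ∧ Algebra.trdeg R B = e ∧ hq + b ≤ hp + e := by
  classical
  obtain ⟨n, ψ, hψ⟩ := Algebra.FiniteType.iff_quotient_mvPolynomial''.1 (inferInstance : Algebra.FiniteType R B)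
  haveI : IsNoetherianRing B := Algebra.FiniteType.isNoetherianRing R B
  let p := q.under R
  let P₀ := RingHom.ker ψ
  haveI : P₀.IsPrime := RingHom.ker_isPrime _
  let Q := q.comap ψ.toRingHom
  have hle : P₀ ≤ Q := fun z hz => by
    show ψ z ∈ q
    rw [RingHom.mem_ker.1 hz]; exact zero_mem _
  have hlies : p = Q.comap (algebraMap R (MvPolynomial (Fin n) R)) := by
    rw [Ideal.comap_comap]
    exact congrArg (fun f => q.comap f) (AlgHom.comp_algebraMap ψ).symm
  haveI : (Q.map (Ideal.Quotient.mk P₀)).IsPrime :=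
    Ideal.map_isPrime_of_surjective Ideal.Quotient.mk_surjective (by rw [Ideal.mk_ker]; exact hle)
  have h1 := height_add_height_map_le P₀ Q hle
  let eB : (MvPolynomial (Fin n) R ⧸ P₀) ≃+* B := RingHom.quotientKerEquivOfSurjective (f := ψ.toRingHom) hψ
  have h2 : (Q.map (Ideal.Quotient.mk P₀)).height = q.height := by
    have : (Q.map (Ideal.Quotient.mk P₀)).map eB.toRingHom = q := by
      rw [Ideal.map_map, show eB.toRingHom.comp (Ideal.Quotient.mk P₀) = ψ.toRingHom from RingHom.ext fun z => rfl,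
        Ideal.map_comap_of_surjective ψ.toRingHom hψ]
    calc (Q.map (Ideal.Quotient.mk P₀)).height = ((Q.map (Ideal.Quotient.mk P₀)).map eB.toRingHom).height :=
          (eB.height_map _).symm
      _ = q.height := by rw [this]
  haveI : Q.LiesOver p := ⟨hlies⟩
  have h3 := Ideal.height_eq_height_add_of_liesOver_of_hasGoingDown p (P := Q)
  let μ : MvPolynomial (Fin n) R →+* MvPolynomial (Fin n) (R ⧸ p) := MvPolynomial.map (Ideal.Quotient.mk p)
  have hμ : Function.Surjective μ := MvPolynomial.map_surjective _ Ideal.Quotient.mk_surjective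
  have hker : RingHom.ker μ = p.map (algebraMap R (MvPolynomial (Fin n) R)) := by
    rw [MvPolynomial.ker_map, Ideal.mk_ker, MvPolynomial.algebraMap_eq]
  let e : MvPolynomial (Fin n) R ⧸ p.map (algebraMap R (MvPolynomial (Fin n) R)) ≃+* MvPolynomial (Fin n) (R ⧸ p) :=
    (Ideal.quotEquivOfEq hker.symm).trans (RingHom.quotientKerEquivOfSurjective hμ)
  let Q' := RingHom.ker (quotMap ψ q).toRingHom
  haveI : Q'.IsPrime := RingHom.ker_isPrime _
  have hQ : Q = Q'.comap μ := by
    rw [RingHom.comap_ker, quotMap_comp, ← RingHom.comap_ker, Ideal.mk_ker]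
  have hmapQ : (Q.map (Ideal.Quotient.mk (p.map (algebraMap R (MvPolynomial (Fin n) R))))).map e.toRingHom = Q' := by
    rw [Ideal.map_map, show e.toRingHom.comp (Ideal.Quotient.mk _) = μ from RingHom.ext fun z => rfl, hQ,
      Ideal.map_comap_of_surjective _ hμ]
  have h4 : (Q.map (Ideal.Quotient.mk (p.map (algebraMap R (MvPolynomial (Fin n) R))))).height = Q'.height := by
    rw [← hmapQ]
    exact (e.height_map _).symm
  have hsurj : Function.Surjective (quotMap ψ q) := fun z => by
    obtain ⟨z, rfl⟩ := Ideal.Quotient.mk_surjective z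
    obtain ⟨w, rfl⟩ := hψ z
    exact ⟨μ w, RingHom.congr_fun (quotMap_comp ψ q) w⟩
  haveI : FaithfulSMul (R ⧸ p) (B ⧸ q) :=
    (faithfulSMul_iff_algebraMap_injective _ _).2 (Ideal.quotientMap_injective' le_rfl)
  have hQ0 : Q'.comap MvPolynomial.C = ⊥ := by
    refine eq_bot_iff.2 fun a ha => FaithfulSMul.algebraMap_injective (R ⧸ p) (B ⧸ q) ?_
    have : quotMap ψ q (MvPolynomial.C a) = 0 := ha
    rw [map_zero, ← (quotMap ψ q).commutes, MvPolynomial.algebraMap_eq, this]
  obtain ⟨hQh, b, hQ'h, hb, hb'⟩ := height_add_trdeg_eq Q' hQ0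
  have hP0 : P₀.comap MvPolynomial.C = ⊥ := by
    refine eq_bot_iff.2 fun a ha => FaithfulSMul.algebraMap_injective R B ?_
    have : ψ (MvPolynomial.C a) = 0 := ha
    rw [map_zero, ← ψ.commutes, MvPolynomial.algebraMap_eq, this]
  obtain ⟨hP, e', hPh, he, he'⟩ := height_add_trdeg_eq P₀ hP0
  obtain ⟨hq, hhq⟩ : ∃ m : ℕ, q.height = m := ⟨_, (ENat.natCast_toNat Ideal.height_ne_top_of_isPrime).symm⟩
  obtain ⟨hp, hhp⟩ : ∃ m : ℕ, p.height = m := ⟨_, (ENat.natCast_toNat Ideal.height_ne_top_of_isPrime).symm⟩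
  refine ⟨hq, hp, b, e', hhq, hhp, ?_, ?_, ?_⟩
  · have hb1 : Algebra.trdeg (R ⧸ p) (MvPolynomial (Fin n) (R ⧸ p) ⧸ Q') = Algebra.trdeg (R ⧸ p) (B ⧸ q) :=
      trdeg_eq_of_ringEquiv (RingEquiv.refl _) (RingHom.quotientKerEquivOfSurjective (f := (quotMap ψ q).toRingHom) hsurj)
        fun r => ((quotMap ψ q).commutes r).symm
    rw [← hb1, hb]
  · have he1 : Algebra.trdeg R (MvPolynomial (Fin n) R ⧸ P₀) = Algebra.trdeg R B :=
      trdeg_eq_of_ringEquiv (RingEquiv.refl _) eB fun r => (ψ.commutes r).symm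
    rw [← he1, he]
  · rw [h2, hPh, hhq, h3, h4, hQ'h, hhp] at h1
    have : hP + hq ≤ hp + hQh := by exact_mod_cast h1
    omega

end Groth.Agent.DimInequality
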