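import Groth.Agent.DimInequality.Scheme
import Groth.Agent.FibreTrdeg.Basic
import Groth.Agent.EquidimFlat.Basic
import Groth.Agent.FibreDim.Local

/-!
The dimension inequality at a point over a point with Noetherian local ring, by base change to the
spectrum of that local ring.
-/

set_option autoImplicit false
set_option linter.style.haveILetI false
universe u

open CategoryTheory CategoryTheory.Limits AlgebraicGeometry

namespace Groth.Agent.DimInequality

theorem exists_fdim_trdeg {X Y : Scheme.{u}} (f : X ⟶ Y) [LocallyOfFiniteType f] (w : X) :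
    ∃ n : ℕ, (letI := (f.residueFieldMap w).hom.toAlgebra
      Algebra.trdeg (Y.residueField (f w)) (X.residueField w)) = n ∧ FibreDim.fdim f w = n := by
  obtain ⟨n, hn, hn'⟩ := FibreTrdeg.exists_trdeg_fibre f (f w) (f.asFiber w)
  refine ⟨n, ?_, by rw [EquidimFlat.fdim_eq_fibre_closure]; exact hn'⟩
  have key : ∀ z : X, z = w → (letI := (f.residueFieldMap z).hom.toAlgebra
      Algebra.trdeg (Y.residueField (f z)) (X.residueField z)) = n →
      (letI := (f.residueFieldMap w).hom.toAlgebra
      Algebra.trdeg (Y.residueField (f w)) (X.residueField w)) = n := by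
    rintro z rfl h; exact h
  exact key _ (f.fiberι_asFiber w) hn

theorem residueFieldMap_bijective {X Y : Scheme.{u}} (f : X ⟶ Y) [IsPreimmersion f] (x : X) :
    Function.Bijective (f.residueFieldMap x).hom := by
  refine ⟨RingHom.injective _, fun z => ?_⟩
  obtain ⟨s, rfl⟩ := X.residue_surjective x z
  obtain ⟨t, rfl⟩ := f.stalkMap_surjective x s
  exact ⟨Y.residue _ t, ConcreteCategory.congr_hom (Scheme.residue_residueFieldMap f x) t⟩

theorem residue_trdeg_of_preimmersion {X Y X' Y' : Scheme.{u}} (f : X ⟶ Y) (f' : X' ⟶ Y') (g : X' ⟶ X)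
    (j : Y' ⟶ Y) [IsPreimmersion g] [IsPreimmersion j] (w : g ≫ f = f' ≫ j) (a : X') :
    (letI := (f'.residueFieldMap a).hom.toAlgebra; Algebra.trdeg (Y'.residueField (f' a)) (X'.residueField a)) =
    (letI := (f.residueFieldMap (g a)).hom.toAlgebra; Algebra.trdeg (Y.residueField (f (g a))) (X.residueField (g a))) := by
  have hp : f (g a) = j (f' a) := by rw [← Scheme.Hom.comp_apply, w]; rfl
  let e := Y.residueFieldCongr hp
  let φ : Y.residueField (f (g a)) ⟶ Y'.residueField (f' a) := e.hom ≫ j.residueFieldMap (f' a)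
  have hφ : Function.Bijective φ.hom :=
    (residueFieldMap_bijective j (f' a)).comp e.commRingCatIsoToRingEquiv.bijective
  have hcomp : f.residueFieldMap (g a) ≫ g.residueFieldMap a = φ ≫ f'.residueFieldMap a := by
    apply Spec.map_injective
    rw [← cancel_mono (Y.fromSpecResidueField (f (g a)))]
    simp only [φ, Spec.map_comp, Category.assoc, Scheme.Hom.SpecMap_residueFieldMap_fromSpecResidueField]
    rw [show Spec.map e.hom ≫ Y.fromSpecResidueField (f (g a)) = Y.fromSpecResidueField (j (f' a)) from
      Scheme.residueFieldCongr_fromSpecResidueField hp, Scheme.Hom.SpecMap_residueFieldMap_fromSpecResidueField,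
      ← Category.assoc (Spec.map (g.residueFieldMap a)), Scheme.Hom.SpecMap_residueFieldMap_fromSpecResidueField,
      Category.assoc, ← Category.assoc (Spec.map (f'.residueFieldMap a)), Scheme.Hom.SpecMap_residueFieldMap_fromSpecResidueField,
      Category.assoc, w]
  letI := (f'.residueFieldMap a).hom.toAlgebra
  letI := (f.residueFieldMap (g a)).hom.toAlgebra
  exact (FibreDim.trdeg_eq_of_ringEquiv (RingEquiv.ofBijective φ.hom hφ)
    (RingEquiv.ofBijective (g.residueFieldMap a).hom (residueFieldMap_bijective g a))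
    fun r => (ConcreteCategory.congr_hom hcomp r).symm).symm

/-- At a point which is not maximal the fibre dimension is smaller than the sum of the dimension of
the base and the generic fibre dimensions. -/
theorem fdim_add_one_le {X Y : Scheme.{u}} (f : X ⟶ Y) [LocallyOfFiniteType f] (w : X)
    [IsNoetherianRing (Y.presheaf.stalk (f w))] (hw : ¬ FibDim.IsMax' w) (E : ℕ)
    (hE : ∀ η : X, FibDim.IsMax' η → η ⤳ w → FibreDim.fdim f η ≤ E) :
    FibreDim.fdim f w + 1 ≤ ringKrullDim (Y.presheaf.stalk (f w)) + E := by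
  let R := Y.presheaf.stalk (f w)
  let j := Y.fromSpecStalk (f w)
  let X' := pullback f j
  let g : X' ⟶ X := pullback.fst f j
  let f' : X' ⟶ Spec R := pullback.snd f j
  have hsq : g ≫ f = f' ≫ j := pullback.condition
  haveI : LocallyOfFiniteType f' := MorphismProperty.pullback_snd f j inferInstance
  have hrange : Set.range g = f ⁻¹' Set.range j := Scheme.Pullback.range_fst f j
  obtain ⟨a, ha⟩ : w ∈ Set.range g := by
    rw [hrange]; exact ⟨IsLocalRing.closedPoint R, Scheme.fromSpecStalk_closedPoint⟩
  have hgen : ∀ z : X, z ⤳ w → ∃ b : X', g b = z := fun z hz => by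
    have : z ∈ Set.range g := by
      rw [hrange, Set.mem_preimage, Scheme.range_fromSpecStalk]
      exact hz.map f.continuous
    exact this
  have hfa : f' a = IsLocalRing.closedPoint R := by
    apply j.isEmbedding.injective
    rw [show j (IsLocalRing.closedPoint R) = f w from Scheme.fromSpecStalk_closedPoint, ← Scheme.Hom.comp_apply,
      ← hsq, Scheme.Hom.comp_apply, ha]
  obtain ⟨n, hn, hn'⟩ := exists_fdim_trdeg f' a
  have htr : ∀ b : X', FibreDim.fdim f' b = FibreDim.fdim f (g b) := fun b => by
    obtain ⟨m, hm, hm'⟩ := exists_fdim_trdeg f' b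
    obtain ⟨m', hm2, hm2'⟩ := exists_fdim_trdeg f (g b)
    rw [residue_trdeg_of_preimmersion f f' g j hsq b, hm2] at hm
    rw [hm', hm2', (Nat.cast_injective hm : m' = m)]
  have hineq := stalk_dimension_inequality f' a n E hn fun ξ hξ hξa => by
    obtain ⟨m, hm, hm'⟩ := exists_fdim_trdeg f' ξ
    rw [hm, Nat.cast_le]
    have hmax : FibDim.IsMax' (g ξ) := fun z hz => by
      obtain ⟨b, rfl⟩ := hgen z (hz.trans ((hξa.map g.continuous).trans (ha ▸ specializes_rfl)))
      have hb : b ⤳ ξ := g.isEmbedding.isInducing.specializes_iff.1 hz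
      rw [(hb.antisymm (specializes_iff_mem_closure.2
        (hξ.2 isIrreducible_singleton.closure (closure_minimal (Set.singleton_subset_iff.2 hb.mem_closure) isClosed_closure) (subset_closure rfl)))).eq]
    have := hE (g ξ) hmax (ha ▸ hξa.map g.continuous)
    rw [← htr, hm'] at this
    exact_mod_cast this
  have hdimR : ringKrullDim ((Spec R).presheaf.stalk (f' a)) ≤ ringKrullDim R := by
    rw [hfa]
    exact (ringKrullDim_eq_of_ringEquiv (AlgebraicGeometry.stalkClosedPointIso R).commRingCatIsoToRingEquiv).le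
  have hone : (1 : WithBot ℕ∞) ≤ ringKrullDim (X'.presheaf.stalk a) := by
    obtain ⟨z, hz, hne⟩ : ∃ z, z ⤳ w ∧ z ≠ w := by
      simpa [FibDim.IsMax'] using hw
    obtain ⟨b, rfl⟩ := hgen z hz
    have hba : b ⤳ a := g.isEmbedding.isInducing.specializes_iff.1 (ha.symm ▸ hz)
    have hba' : b ≠ a := fun h => hne (h ▸ ha)
    obtain ⟨P, hP⟩ := (Set.ext_iff.1 Scheme.range_fromSpecStalk b).2 hba
    let P' : PrimeSpectrum (X'.presheaf.stalk a) := P
    have hlt : P' < IsLocalRing.closedPoint (X'.presheaf.stalk a) := lt_of_le_of_ne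
      (IsLocalRing.le_maximalIdeal P'.2.ne_top) fun he => hba' (by
        rw [← hP, show P = IsLocalRing.closedPoint (X'.presheaf.stalk a) from he]
        exact Scheme.fromSpecStalk_closedPoint)
    have h := Order.LTSeries.length_le_krullDim ((RelSeries.singleton _ P').snoc _ hlt)
    simpa [ringKrullDim] using h
  rw [← ha, ← htr, hn', add_comm]
  calc (1 : WithBot ℕ∞) + n ≤ ringKrullDim (X'.presheaf.stalk a) + n := by gcongr
    _ ≤ ringKrullDim ((Spec R).presheaf.stalk (f' a)) + E := hineq
    _ ≤ ringKrullDim (Y.presheaf.stalk (f w)) + E := by gcongr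
    _ = _ := by rw [ha]

end Groth.Agent.DimInequality
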